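import Mathlib
import Groth.Prelude.Def_Cyc
import Groth.Agent.EquidimLib.DimEquality
import Groth.Agent.JacDimLib.Between
import Groth.Agent.AlgSpLib.FibrePts

/-!
# Dimension functions and dimensions between points
-/

set_option autoImplicit false
set_option linter.style.haveILetI false

universe u

open AlgebraicGeometry CategoryTheory Limits EquidimLib

namespace CycLimLib

variable {X S : Scheme.{u}}

theorem dimBetween_le_one {a b : X} (hab : a ⤳ b) (himm : ∀ z, a ⤳ z → z ⤳ b → z = a ∨ z = b) :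
    dimBetween a b ≤ 1 := by
  obtain ⟨P, rfl⟩ := exists_stalkPt hab
  rw [← stalk_quotient_dim_eq]
  refine Ring.krullDimLE_iff.1 (Ring.KrullDimLE.mk₁' fun I hI hIp => ?_)
  let Q : PrimeSpectrum (X.presheaf.stalk b) := ⟨I.comap (Ideal.Quotient.mk P.asIdeal), inferInstance⟩
  have hPQ : P ≤ Q := fun r hr => by
    show Ideal.Quotient.mk P.asIdeal r ∈ I
    rw [Ideal.Quotient.eq_zero_iff_mem.2 hr]
    exact I.zero_mem
  have hIQ : I = Q.asIdeal.map (Ideal.Quotient.mk P.asIdeal) :=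
    (Ideal.map_comap_of_surjective _ Ideal.Quotient.mk_surjective I).symm
  rcases himm _ (specializes_stalkPt hPQ) (stalkPt_specializes b Q) with h | h
  · exfalso
    refine hI ?_
    rw [hIQ, stalkPt_injective b h, Ideal.map_quotient_self]
  · have hQ : Q = IsLocalRing.closedPoint _ :=
      stalkPt_injective b (h.trans Scheme.fromSpecStalk_closedPoint.symm)
    have hm : Q.asIdeal.IsMaximal := by
      rw [hQ]
      exact IsLocalRing.maximalIdeal.isMaximal _
    rw [hIQ]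
    exact hm.map_of_surjective_of_ker_le Ideal.Quotient.mk_surjective (by rw [Ideal.mk_ker]; exact hPQ)

theorem delta_eq_add {δ : X → ℤ} (hX : Cyc.IsSetup X δ) {a b : X} (hab : a ⤳ b) {n : ℕ}
    (hn : dimBetween a b = n) : δ a = δ b + n := by
  haveI := hX.1
  induction n using Nat.strong_induction_on generalizing a b with
  | _ n IH =>
    by_cases he : a = b
    · subst he
      rw [dimBetween_self] at hn
      have : n = 0 := by exact_mod_cast hn.symm
      omega
    have h1 := one_le_dimBetween hab he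
    rw [hn] at h1
    have h1' : 1 ≤ n := by exact_mod_cast h1
    by_cases himm : ∀ z, a ⤳ z → z ⤳ b → z = a ∨ z = b
    · have h2 := dimBetween_le_one hab himm
      rw [hn] at h2
      have h2' : n ≤ 1 := by exact_mod_cast h2
      have := (hX.2.2 a b hab he).2 himm
      omega
    simp only [not_forall, not_or] at himm
    obtain ⟨z, haz, hzb, hza, hzb'⟩ := himm
    obtain ⟨k, hk⟩ := exists_dimBetween_eq_nat haz
    obtain ⟨l, hl⟩ := exists_dimBetween_eq_nat hzb
    have hadd := JacDimLib.dimBetween_add_eq haz hzb (hX.2.1 b)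
    rw [hn, hk, hl] at hadd
    have hadd' : n = k + l := by exact_mod_cast hadd
    have hk1 := one_le_dimBetween haz (Ne.symm hza)
    have hl1 := one_le_dimBetween hzb hzb'
    rw [hk] at hk1
    rw [hl] at hl1
    have hk1' : 1 ≤ k := by exact_mod_cast hk1
    have hl1' : 1 ≤ l := by exact_mod_cast hl1
    have e1 := IH k (by omega) haz hk
    have e2 := IH l (by omega) hzb hl
    omega

theorem delta_drop_of_deltaCompat (f : X ⟶ S) [LocallyOfFiniteType f] {δ : S → ℤ} {δX : X → ℤ}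
    (hS : Cyc.IsSetup S δ) (hδ : Cyc.DeltaCompat f δX δ) {a b : X} (hab : a ⤳ b) {n : ℕ}
    (hn : dimBetween a b = n) : δX a = δX b + n := by
  haveI := hS.1
  obtain ⟨m, hm⟩ := exists_dimBetween_eq_nat (hab.map f.continuous)
  have hS' := delta_eq_add hS (hab.map f.continuous) hm
  obtain ⟨ta, hta, ea⟩ := hδ a
  obtain ⟨tb, htb, eb⟩ := hδ b
  have h := dimBetween_add_fibreClosureDim_eq f hab (hS.2.1 _)
  rw [AlgSpLib.fibreClosureDim_eq_resTrdeg, AlgSpLib.fibreClosureDim_eq_resTrdeg, Dual3.resTrdeg, Dual3.resTrdeg,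
    hta, htb, map_natCast, map_natCast, hn, hm] at h
  have h' : n + tb = m + ta := by exact_mod_cast h
  omega

theorem isDimFun_of_drop [IsLocallyNoetherian X] {δ : X → ℤ}
    (h : ∀ {a b : X}, a ⤳ b → ∀ {n : ℕ}, dimBetween a b = n → δ a = δ b + n) : Cyc.IsDimFun X δ := by
  intro a b hab hne
  obtain ⟨n, hn⟩ := exists_dimBetween_eq_nat hab
  have h1 := one_le_dimBetween hab hne
  rw [hn] at h1
  have h1' : 1 ≤ n := by exact_mod_cast h1
  have e := h hab hn
  refine ⟨by omega, fun himm => ?_⟩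
  have h2 := dimBetween_le_one hab himm
  rw [hn] at h2
  have h2' : n ≤ 1 := by exact_mod_cast h2
  omega

theorem isDimFun_of_deltaCompat (f : X ⟶ S) [LocallyOfFiniteType f] {δ : S → ℤ} {δX : X → ℤ}
    (hS : Cyc.IsSetup S δ) (hδ : Cyc.DeltaCompat f δX δ) : Cyc.IsDimFun X δX := by
  haveI := hS.1
  haveI := LocallyOfFiniteType.isLocallyNoetherian f
  exact isDimFun_of_drop fun {a b} hab {n} hn => delta_drop_of_deltaCompat f hS hδ hab hn

end CycLimLib

namespace CycLimLib

variable {X : Scheme.{u}}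

/-- If all generizations of `x` come from `ξ`, the dimension between them is that of the local ring. -/
theorem dimBetween_eq_stalk {ξ x : X} (h : ∀ w, w ⤳ x → ξ ⤳ w) :
    dimBetween ξ x = ringKrullDim (X.presheaf.stalk x) := by
  rw [stalk_dim_eq, dimBetween, show {v : X | ξ ⤳ v ∧ v ⤳ x} = {v | v ⤳ x} from
    Set.ext fun v => ⟨fun hv => hv.2, fun hv => ⟨h v hv, hv⟩⟩]

theorem exists_maximal (x : X) : ∃ ξ : X, ξ ⤳ x ∧ ∀ z, z ⤳ ξ → z = ξ := by
  obtain ⟨p, hp, -⟩ := Ideal.exists_minimalPrimes_le (I := (⊥ : Ideal (X.presheaf.stalk x)))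
    (J := IsLocalRing.maximalIdeal _) bot_le
  refine ⟨stalkPt x ⟨p, hp.1.1⟩, stalkPt_specializes x _, fun z hz => ?_⟩
  obtain ⟨q, rfl⟩ := exists_stalkPt (hz.trans (stalkPt_specializes x _))
  have hle : q.asIdeal ≤ p := le_of_stalkPt hz
  rw [show q = ⟨p, hp.1.1⟩ from PrimeSpectrum.ext (le_antisymm hle (hp.2 ⟨q.2, bot_le⟩ hle))]

/-- Near a point there are only the components through the point. -/
theorem exists_open_maximal_through [IsLocallyNoetherian X] (x : X) :
    ∃ U : X.Opens, x ∈ U ∧ ∀ ξ ∈ U, (∀ z, z ⤳ ξ → z = ξ) → ξ ⤳ x := by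
  obtain ⟨V, hV, hxV, -⟩ := exists_isAffineOpen_mem_and_subset (X := X) (x := x) (U := ⊤) trivial
  haveI : IsNoetherianRing Γ(X, V) := IsLocallyNoetherian.component_noetherian ⟨V, hV⟩
  let S : Set X := {ξ | ξ ∈ V ∧ (∀ z, z ⤳ ξ → z = ξ) ∧ ¬ ξ ⤳ x}
  have hS : S.Finite := by
    classical
    refine Set.Finite.of_injOn (f := fun ξ => if h : ξ ∈ V then (hV.primeIdealOf ⟨ξ, h⟩).asIdeal else ⊤)
      (t := minimalPrimes Γ(X, V)) ?_ ?_ (minimalPrimes.finite_of_isNoetherianRing Γ(X, V))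
    · rintro ξ ⟨hξV, hmax, -⟩
      show _ ∈ minimalPrimes Γ(X, V)
      simp only [dif_pos hξV]
      refine ⟨⟨(hV.primeIdealOf ⟨ξ, hξV⟩).2, bot_le⟩, fun Q hQ hle => ?_⟩
      let q : PrimeSpectrum Γ(X, V) := ⟨Q, hQ.1⟩
      have hs : hV.fromSpec q ⤳ ξ := by
        have h := ((PrimeSpectrum.le_iff_specializes q (hV.primeIdealOf ⟨ξ, hξV⟩)).mp hle).map hV.fromSpec.continuous
        rwa [hV.fromSpec_primeIdealOf ⟨ξ, hξV⟩] at h
      have hq : q = hV.primeIdealOf ⟨ξ, hξV⟩ := hV.fromSpec.isOpenEmbedding.injective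
        ((hmax _ hs).trans (hV.fromSpec_primeIdealOf ⟨ξ, hξV⟩).symm)
      exact (congrArg PrimeSpectrum.asIdeal hq).ge
    · intro a ha b hb hab
      simp only [dif_pos ha.1, dif_pos hb.1] at hab
      have := congrArg hV.fromSpec.base (PrimeSpectrum.ext hab :
        hV.primeIdealOf ⟨a, ha.1⟩ = hV.primeIdealOf ⟨b, hb.1⟩)
      simpa only [hV.fromSpec_primeIdealOf] using this
  refine ⟨⟨(V : Set X) ∩ (⋃ ξ ∈ S, closure {ξ})ᶜ,
    V.isOpen.inter (hS.isClosed_biUnion fun _ _ => isClosed_closure).isOpen_compl⟩, ⟨hxV, fun h => ?_⟩,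
    fun ξ hξ hmax => ?_⟩
  · obtain ⟨ξ, hξ, hx⟩ := Set.mem_iUnion₂.1 h
    exact hξ.2.2 (specializes_iff_mem_closure.2 hx)
  · by_contra hn
    exact hξ.2 (Set.mem_iUnion₂.2 ⟨ξ, ⟨hξ.1, hmax, hn⟩, subset_closure rfl⟩)

end CycLimLib
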