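import Mathlib
import Groth.Agent.RichLib.LimStalk
import Groth.Prelude.Def_Cyc

/-!
# Flat pullback of cycles to limits of schemes
-/

set_option autoImplicit false
set_option linter.style.haveILetI false

universe u

open AlgebraicGeometry CategoryTheory Limits IsLocalRing

namespace CycLimLib

theorem support_finite {X : Scheme.{u}} [CompactSpace X] (c : AlgebraicCycle X ℤ) :
    (Function.support ⇑c).Finite := by
  choose t ht htf using fun z : X => c.supportLocallyFiniteWithinDomain z trivial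
  obtain ⟨S, hS⟩ := CompactSpace.elim_nhds_subcover t ht
  refine (S.finite_toSet.biUnion fun z _ => htf z).subset fun x hx => ?_
  obtain ⟨z, hz, hxz⟩ := Set.mem_iUnion₂.1 (hS.ge (Set.mem_univ x))
  exact Set.mem_iUnion₂.2 ⟨z, hz, hxz, hx⟩

section Fibre

variable {X Y : Scheme.{u}} (f : X ⟶ Y)

/-- `x` is a generic point of its fibre. -/
def IsGen (x : X) : Prop := ∀ y, f y = f x → y ⤳ x → y = x

/-- The ideal of the fibre in the local ring. -/
noncomputable abbrev fibIdeal (x : X) : Ideal (X.presheaf.stalk x) :=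
  Ideal.map (f.stalkMap x).hom (maximalIdeal (Y.presheaf.stalk (f x)))

theorem fibIdeal_le (x : X) : fibIdeal f x ≤ maximalIdeal (X.presheaf.stalk x) := by
  have h : IsLocalHom (f.stalkMap x).hom := inferInstance
  exact ((IsLocalRing.local_hom_TFAE (f.stalkMap x).hom).out 0 2).mp h

theorem map_fromSpecStalk_eq {x : X} (P : PrimeSpectrum (X.presheaf.stalk x)) (hP : fibIdeal f x ≤ P.asIdeal) :
    f (X.fromSpecStalk x P) = f x := by
  have h1 : (X.fromSpecStalk x ≫ f) P = (Spec.map (f.stalkMap x) ≫ Y.fromSpecStalk (f x)) P := by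
    rw [Scheme.SpecMap_stalkMap_fromSpecStalk]
  refine h1.trans ?_
  show Y.fromSpecStalk (f x) (PrimeSpectrum.comap (f.stalkMap x).hom P) = f x
  have h2 : PrimeSpectrum.comap (f.stalkMap x).hom P = closedPoint (Y.presheaf.stalk (f x)) :=
    PrimeSpectrum.ext ((le_antisymm (IsLocalRing.le_maximalIdeal (Ideal.IsPrime.ne_top inferInstance))
      (Ideal.map_le_iff_le_comap.1 hP)))
  rw [h2]
  exact Scheme.fromSpecStalk_closedPoint

theorem fromSpecStalk_specializes {x : X} (P : PrimeSpectrum (X.presheaf.stalk x)) :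
    X.fromSpecStalk x P ⤳ x :=
  (Scheme.range_fromSpecStalk (X := X) (x := x)).le ⟨P, rfl⟩

theorem fibIdeal_le_of_map_eq {x : X} (P : PrimeSpectrum (X.presheaf.stalk x)) (hP : f (X.fromSpecStalk x P) = f x) :
    fibIdeal f x ≤ P.asIdeal := by
  have h1 : (X.fromSpecStalk x ≫ f) P = (Spec.map (f.stalkMap x) ≫ Y.fromSpecStalk (f x)) P := by
    rw [Scheme.SpecMap_stalkMap_fromSpecStalk]
  have h2 : Y.fromSpecStalk (f x) (PrimeSpectrum.comap (f.stalkMap x).hom P) =
      Y.fromSpecStalk (f x) (closedPoint (Y.presheaf.stalk (f x))) := by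
    rw [Scheme.fromSpecStalk_closedPoint]
    exact h1.symm.trans hP
  have h3 := (Y.fromSpecStalk (f x)).isEmbedding.injective h2
  refine Ideal.map_le_iff_le_comap.2 (le_of_eq ?_)
  exact (congrArg PrimeSpectrum.asIdeal h3).symm

theorem mem_fibIdeal_of_eq {x : X} {b : Y.presheaf.stalk (f x)} {a : X.presheaf.stalk x}
    (hb : f.stalkMap x b = a) (ha : a ∈ maximalIdeal (X.presheaf.stalk x)) : a ∈ fibIdeal f x := by
  subst hb
  exact Ideal.mem_map_of_mem (f.stalkMap x).hom ((IsLocalRing.mem_maximalIdeal _).2 fun hu =>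
    (IsLocalRing.mem_maximalIdeal _).1 ha (hu.map (f.stalkMap x).hom))

theorem exists_gen [IsLocallyNoetherian X] (x : X) : ∃ z, z ⤳ x ∧ f z = f x ∧ IsGen f z := by
  obtain ⟨p, hp, -⟩ := Ideal.exists_minimalPrimes_le (I := fibIdeal f x) (J := maximalIdeal _) (fibIdeal_le f x)
  let P : PrimeSpectrum (X.presheaf.stalk x) := ⟨p, hp.1.1⟩
  have hPx : f (X.fromSpecStalk x P) = f x := map_fromSpecStalk_eq f P hp.1.2
  refine ⟨_, fromSpecStalk_specializes P, hPx, fun y hy hys => ?_⟩
  obtain ⟨Q, hQ⟩ := (Scheme.range_fromSpecStalk (X := X) (x := x)).ge (hys.trans (fromSpecStalk_specializes P))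
  rw [← hQ] at hy hys ⊢
  have hQP : Q ⤳ P := (X.fromSpecStalk x).isEmbedding.isInducing.specializes_iff.1 hys
  have hle : Q.asIdeal ≤ p := (PrimeSpectrum.le_iff_specializes Q P).2 hQP
  have hQJ : fibIdeal f x ≤ Q.asIdeal := fibIdeal_le_of_map_eq f Q (hy.trans hPx)
  have : Q = P := PrimeSpectrum.ext (le_antisymm hle (hp.2 ⟨Q.2, hQJ⟩ hle))
  rw [this]

theorem length_ne_zero (x : X) :
    Module.length (X.presheaf.stalk x) (X.presheaf.stalk x ⧸ fibIdeal f x) ≠ 0 := by
  haveI : Nontrivial (X.presheaf.stalk x ⧸ fibIdeal f x) :=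
    Ideal.Quotient.nontrivial_iff.2 fun h => (maximalIdeal.isMaximal _).ne_top (top_le_iff.1 (h ▸ fibIdeal_le f x))
  exact Module.length_pos.ne'

theorem length_ne_top [IsLocallyNoetherian X] {x : X} (hx : IsGen f x) :
    Module.length (X.presheaf.stalk x) (X.presheaf.stalk x ⧸ fibIdeal f x) ≠ ⊤ := by
  haveI : Ring.KrullDimLE 0 (X.presheaf.stalk x ⧸ fibIdeal f x) := Ring.KrullDimLE.mk₀ fun P hP => by
    let Q : PrimeSpectrum (X.presheaf.stalk x) := ⟨P.comap (Ideal.Quotient.mk _), inferInstance⟩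
    have hQ : fibIdeal f x ≤ Q.asIdeal := fun a ha => by
      show Ideal.Quotient.mk _ a ∈ P
      rw [Ideal.Quotient.eq_zero_iff_mem.2 ha]
      exact P.zero_mem
    have h := hx _ (map_fromSpecStalk_eq f Q hQ) (fromSpecStalk_specializes Q)
    have h2 : Q = closedPoint (X.presheaf.stalk x) :=
      (X.fromSpecStalk x).isEmbedding.injective (h.trans Scheme.fromSpecStalk_closedPoint.symm)
    have hmax : (P.comap (Ideal.Quotient.mk (fibIdeal f x))).IsMaximal := by
      show Q.asIdeal.IsMaximal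
      rw [h2]
      exact maximalIdeal.isMaximal _
    rw [← Ideal.map_comap_of_surjective _ Ideal.Quotient.mk_surjective P]
    exact hmax.map_of_surjective_of_ker_le Ideal.Quotient.mk_surjective (Ideal.ker_le_comap _)
  haveI : IsArtinianRing (X.presheaf.stalk x ⧸ fibIdeal f x) :=
    isArtinianRing_iff_isNoetherianRing_krullDimLE_zero.2 ⟨inferInstance, inferInstance⟩
  haveI : IsArtinian (X.presheaf.stalk x) (X.presheaf.stalk x ⧸ fibIdeal f x) :=
    isArtinian_of_surjective_algebraMap (R := X.presheaf.stalk x ⧸ fibIdeal f x) Ideal.Quotient.mk_surjective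
  exact Module.length_ne_top

end Fibre

section Pull

variable {X Y : Scheme.{u}} (f : X ⟶ Y) [IsLocallyNoetherian X] (δX : X → ℤ) (δY : Y → ℤ)
  (hδ : Cyc.IsDimFun X δX) (hsh : ∀ x, IsGen f x → δX x = δY (f x))
include hδ hsh

theorem isGen_of_delta {x : X} (hx : δX x = δY (f x)) : IsGen f x := by
  obtain ⟨z, hzx, hfz, hz⟩ := exists_gen f x
  rcases eq_or_ne z x with rfl | hne
  · exact hz
  · have h := (hδ z x hzx hne).1
    rw [hsh z hz, hfz, ← hx] at h
    exact absurd h (lt_irrefl _)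

theorem not_mem_range_of_pullFun_eq_zero (a : Y → ℤ) (h0 : Cyc.pullFun f δX δY 0 a = 0) {y : Y} (hy : a y ≠ 0)
    (x : X) : f x ≠ y := by
  intro hxy
  obtain ⟨z, -, hfz, hz⟩ := exists_gen f x
  have h := congrFun h0 z
  rw [Cyc.pullFun, if_pos (by rw [add_zero]; exact hsh z hz), Pi.zero_apply, mul_eq_zero] at h
  rcases h with h | h
  · rw [hfz, hxy] at h
    exact hy h
  · rw [Int.natCast_eq_zero, ENat.toNat_eq_zero] at h
    exact h.elim (length_ne_zero f z) (length_ne_top f hz)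

end Pull

section Limit

variable {J : Type u} [SmallCategory J] [IsCofiltered J] (D : J ⥤ Scheme.{u}) (c : Cone D) (hc : IsLimit c)
  [∀ {i j : J} (f : i ⟶ j), IsAffineHom (D.map f)] [∀ j, CompactSpace (D.obj j)]
  [IsLocallyNoetherian c.pt]

include hc

theorem exists_stage_point (i₀ : J) (x : c.pt) :
    ∃ (j : J) (_ : j ⟶ i₀), ∀ z, c.π.app j x ⤳ c.π.app j z → x ⤳ z := by
  haveI : CompactSpace c.pt := Scheme.compactSpace_of_isLimit D c hc
  haveI : IsNoetherian c.pt := {}
  let S : (Σ j : J, (j ⟶ i₀)) → TopologicalSpace.Closeds c.pt := fun j =>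
    ⟨(c.π.app j.1).base ⁻¹' closure {c.π.app j.1 x}, isClosed_closure.preimage (c.π.app j.1).continuous⟩
  obtain ⟨_, ⟨j, rfl⟩, hmin⟩ := (wellFounded_lt (α := TopologicalSpace.Closeds c.pt)).has_min (Set.range S)
    ⟨S ⟨i₀, 𝟙 _⟩, Set.mem_range_self _⟩
  refine ⟨j.1, j.2, fun z hz => RichLib.LimTop.specializes_of_forall D c hc fun i => ?_⟩
  let k := IsCofiltered.min j.1 i
  have hle : ∀ {a : J} (φ : k ⟶ a), S ⟨k, IsCofiltered.minToLeft j.1 i ≫ j.2⟩ ≤
      ⟨(c.π.app a).base ⁻¹' closure {c.π.app a x}, isClosed_closure.preimage (c.π.app a).continuous⟩ :=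
    fun {a} φ w hw => by
      show c.π.app a w ∈ closure {c.π.app a x}
      rw [← specializes_iff_mem_closure, ← RichLib.LimTop.π_map_apply D c φ w,
        ← RichLib.LimTop.π_map_apply D c φ x]
      exact (specializes_iff_mem_closure.2 hw).map (D.map φ).continuous
  have heq : S ⟨k, IsCofiltered.minToLeft j.1 i ≫ j.2⟩ = S j :=
    eq_of_le_of_not_lt (hle (IsCofiltered.minToLeft j.1 i)) (hmin _ (Set.mem_range_self _))
  have : z ∈ S ⟨k, IsCofiltered.minToLeft j.1 i ≫ j.2⟩ := heq ▸ specializes_iff_mem_closure.1 hz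
  exact specializes_iff_mem_closure.2 (hle (IsCofiltered.minToRight j.1 i) this)

theorem fibIdeal_mono {j k : J} (φ : k ⟶ j) (x : c.pt) :
    fibIdeal (c.π.app j) x ≤ fibIdeal (c.π.app k) x := by
  have hgen : ∀ (g : c.pt ⟶ D.obj j) (_ : c.π.app k ≫ D.map φ = g), fibIdeal g x ≤ fibIdeal (c.π.app k) x := by
    rintro _ rfl
    rw [fibIdeal, Scheme.Hom.stalkMap_comp]
    erw [CommRingCat.hom_comp, ← Ideal.map_map]
    exact Ideal.map_mono (fibIdeal_le (D.map φ) (c.π.app k x))
  exact hgen _ (c.w φ)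

theorem exists_stage_ideal (i₀ : J) (x : c.pt) :
    ∃ (j : J) (_ : j ⟶ i₀), maximalIdeal (c.pt.presheaf.stalk x) ≤ fibIdeal (c.π.app j) x := by
  classical
  haveI : ∀ (i j : J) (f : i ⟶ j), IsAffineHom (D.map f) := fun _ _ f => inferInstance
  obtain ⟨G, hG⟩ := IsNoetherian.noetherian (maximalIdeal (c.pt.presheaf.stalk x))
  choose jj φ b hb using fun a : c.pt.presheaf.stalk x => RichLib.LimStalk.exists_stalkMap_eq D c hc i₀ x a
  obtain ⟨k, hk⟩ := IsCofiltered.inf_objs_exists (insert i₀ (G.image jj))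
  refine ⟨k, (hk (Finset.mem_insert_self _ _)).some, ?_⟩
  rw [← hG]
  refine Submodule.span_le.2 fun a ha => ?_
  have hta : a ∈ maximalIdeal (c.pt.presheaf.stalk x) := hG ▸ Submodule.subset_span ha
  refine fibIdeal_mono D c hc (hk (Finset.mem_insert_of_mem (Finset.mem_image_of_mem jj ha))).some x ?_
  exact mem_fibIdeal_of_eq (c.π.app (jj a)) (hb a) hta

/-- An injectivity property: a cycle pulling back to zero dies at some stage. -/
theorem exists_stage_empty (i : J) (S : Set (D.obj i)) (hS : S.Finite) [Flat (c.π.app i)]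
    (h : ∀ x, c.π.app i x ∉ S) : ∃ (j : J) (f : j ⟶ i), ∀ x, D.map f x ∉ S := by
  have hT : ∀ x, c.π.app i x ∉ ⋃ y ∈ S, closure {y} := fun x hx => by
    obtain ⟨y, hy, hyx⟩ := Set.mem_iUnion₂.1 hx
    obtain ⟨z, -, hz⟩ := (Flat.generalizingMap (c.π.app i)) (specializes_iff_mem_closure.2 hyx)
    exact h z (hz ▸ hy)
  by_contra hne
  simp only [not_exists, not_forall, not_not] at hne
  have hTc : IsClosed (⋃ y ∈ S, closure {y}) := hS.isClosed_biUnion fun _ _ => isClosed_closure
  obtain ⟨s, hs⟩ := exists_mem_of_isClosed_of_nonempty' D c hc (j := i)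
    (fun a f => (D.map f).base ⁻¹' (⋃ y ∈ S, closure {y})) (fun a f => hTc.preimage (D.map f).continuous)
    (fun a f => by
      obtain ⟨w, hw⟩ := hne a f
      exact ⟨w, Set.mem_iUnion₂.2 ⟨_, hw, subset_closure rfl⟩⟩)
    (fun a f => (hTc.preimage (D.map f).continuous).isCompact)
    (fun a a' g f w hw => by
      show D.map f (D.map g w) ∈ ⋃ y ∈ S, closure {y}
      rw [← RichLib.LimTop.map_comp_apply D g f w]
      exact hw)
  refine hT s ?_
  have := hs i (𝟙 i)
  simpa using this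

end Limit

end CycLimLib

namespace CycLimLib

section Comp

variable {X Y Z : Scheme.{u}} (f : X ⟶ Y) (g : Y ⟶ Z)

theorem isGen_comp_iff [Flat f] (x : X) : IsGen (f ≫ g) x ↔ IsGen f x ∧ IsGen g (f x) := by
  refine ⟨fun h => ⟨fun y hy hyx => h y (congrArg g hy) hyx, fun y hy hyx => ?_⟩, fun h y hy hyx => ?_⟩
  · obtain ⟨z, hzx, hz⟩ := (Flat.generalizingMap f) hyx
    rw [← hz] at hy ⊢
    rw [h z hy hzx]
  · exact h.1 y (h.2 (f y) hy (hyx.map f.continuous)) hyx

theorem length_fibIdeal_comp [Flat f] (x : X) :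
    Module.length (X.presheaf.stalk x) (X.presheaf.stalk x ⧸ fibIdeal (f ≫ g) x) =
      Module.length (Y.presheaf.stalk (f x)) (Y.presheaf.stalk (f x) ⧸ fibIdeal g (f x)) *
        Module.length (X.presheaf.stalk x) (X.presheaf.stalk x ⧸ fibIdeal f x) := by
  letI : Algebra (Y.presheaf.stalk (f x)) (X.presheaf.stalk x) := (f.stalkMap x).hom.toAlgebra
  haveI : Module.Flat (Y.presheaf.stalk (f x)) (X.presheaf.stalk x) := Flat.stalkMap f x
  haveI : IsLocalHom (algebraMap (Y.presheaf.stalk (f x)) (X.presheaf.stalk x)) :=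
    inferInstanceAs (IsLocalHom (f.stalkMap x).hom)
  have h : fibIdeal (f ≫ g) x =
      (fibIdeal g (f x)).map (algebraMap (Y.presheaf.stalk (f x)) (X.presheaf.stalk x)) := by
    rw [fibIdeal, Scheme.Hom.stalkMap_comp]
    erw [CommRingCat.hom_comp, ← Ideal.map_map]
    rfl
  rw [h, (Algebra.TensorProduct.quotIdealMapEquivTensorQuot (X.presheaf.stalk x)
    (fibIdeal g (f x))).toLinearEquiv.length_eq,
    IsLocalRing.length_baseChange (Y.presheaf.stalk (f x)) (X.presheaf.stalk x)]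
  rfl

end Comp

end CycLimLib
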