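import Mathlib
import Groth.Agent.CycLimLib.Basic
import Groth.Agent.AlgSpLib.RelDim2
import Groth.Agent.AlgSpLib.FibrePts
import Groth.Agent.DimIneqLib.Fibre
import Groth.Agent.FibDimLib.Comps
import Groth.Agent.UOpenLib.FibreDim

/-!
# Generic points of fibres of morphisms of given relative dimension
-/

set_option autoImplicit false

universe u

open AlgebraicGeometry CategoryTheory Limits

namespace CycLimLib

variable {X Y Z : Scheme.{u}} (f : X ⟶ Y) (g : Y ⟶ Z) [LocallyOfFiniteType f]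

theorem resTrdeg_eq_of_gen {r : ℕ} (hr : Cyc.HasRelDim f r) {x : X} (hx : IsGen f x) :
    Cardinal.toENat (Dual3.resTrdeg f x) = r := by
  have h := UOpenLib.fibreDimAt_eq_of_max f (x := x) fun x' h1 h2 => hx x' h1 (specializes_iff_mem_closure.2 h2)
  rw [AlgSpLib.fibreDimAt_of_hasRelDim f hr, AlgSpLib.fibreClosureDim_eq_resTrdeg] at h
  exact_mod_cast h.symm

theorem delta_eq_of_gen {δX : X → ℤ} {δY : Y → ℤ} (hδ : Cyc.DeltaCompat f δX δY) {r : ℕ} (hr : Cyc.HasRelDim f r)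
    {x : X} (hx : IsGen f x) : δX x = δY (f x) + r := by
  obtain ⟨n, hn, h⟩ := hδ x
  have h1 := resTrdeg_eq_of_gen f hr hx
  rw [Dual3.resTrdeg, hn, map_natCast, Nat.cast_inj] at h1
  rw [h, h1]

theorem resTrdeg_le {r : ℕ} (hr : Cyc.HasRelDim f r) (x : X) :
    Cardinal.toENat (Dual3.resTrdeg f x) ≤ r := by
  have h := AlgSpLib.fibreDimAt_eq_stalk_add_resTrdeg f x
  rw [AlgSpLib.fibreDimAt_of_hasRelDim f hr] at h
  have h0 : (0 : WithBot ℕ∞) ≤ ringKrullDim ((f.fiber (f x)).presheaf.stalk (f.asFiber x)) :=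
    ringKrullDim_nonneg_of_nontrivial
  have h1 := h.ge.trans' (le_add_of_nonneg_left h0)
  exact_mod_cast h1

theorem delta_le {δX : X → ℤ} {δY : Y → ℤ} (hδ : Cyc.DeltaCompat f δX δY) {r : ℕ} (hr : Cyc.HasRelDim f r) (x : X) :
    δX x ≤ δY (f x) + r := by
  obtain ⟨n, hn, h⟩ := hδ x
  have h1 := resTrdeg_le f hr x
  rw [Dual3.resTrdeg, hn, map_natCast, Nat.cast_le] at h1
  rw [h]
  omega

theorem isGen_of_relDim {δX : X → ℤ} {δY : Y → ℤ} (hδ : Cyc.DeltaCompat f δX δY) {r : ℕ} (hr : Cyc.HasRelDim f r)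
    {x : X} (hx : δX x = δY (f x) + r) : IsGen f x := by
  obtain ⟨n, hn, h⟩ := hδ x
  obtain rfl : n = r := by omega
  have hd := AlgSpLib.fibreDimAt_eq_stalk_add_resTrdeg f x
  rw [AlgSpLib.fibreDimAt_of_hasRelDim f hr, Dual3.resTrdeg, hn, map_natCast] at hd
  have h0 : ringKrullDim ((f.fiber (f x)).presheaf.stalk (f.asFiber x)) ≤ 0 := by
    revert hd
    generalize ringKrullDim ((f.fiber (f x)).presheaf.stalk (f.asFiber x)) = d
    intro hd
    induction d using WithBot.recBotCoe with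
    | bot => exact bot_le
    | coe d =>
      change ((n : ℕ∞) : WithBot ℕ∞) = (d : WithBot ℕ∞) + ((n : ℕ∞) : WithBot ℕ∞) at hd
      rw [← WithBot.coe_add, WithBot.coe_inj] at hd
      induction d using ENat.recTopCoe with
      | top => rw [top_add] at hd; exact absurd hd (ENat.coe_ne_top n)
      | coe d =>
        norm_cast at hd ⊢
        omega
  haveI : Ring.KrullDimLE 0 ((f.fiber (f x)).presheaf.stalk (f.asFiber x)) := Ring.krullDimLE_iff.2 h0
  intro z hz hzx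
  obtain ⟨w, hw⟩ : z ∈ Set.range (f.fiberι (f x)) := by
    rw [f.range_fiberι]; exact hz
  have hwx : w ⤳ f.asFiber x := (f.fiberι (f x)).isEmbedding.isInducing.specializes_iff.1
    (hw.symm ▸ (f.fiberι_asFiber x).symm ▸ hzx)
  obtain ⟨P, hP⟩ := (Scheme.range_fromSpecStalk (X := f.fiber (f x)) (x := f.asFiber x)).ge hwx
  have hPc : P = IsLocalRing.closedPoint _ :=
    PrimeSpectrum.ext (IsLocalRing.eq_maximalIdeal (inferInstanceAs P.asIdeal.IsMaximal))
  rw [← hw, ← hP, hPc, Scheme.fromSpecStalk_closedPoint, f.fiberι_asFiber]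

theorem hasRelDim_comp [Flat f] [LocallyOfFiniteType g] {r s : ℕ} (hr : Cyc.HasRelDim f r)
    (hs : Cyc.HasRelDim g s) : Cyc.HasRelDim (f ≫ g) (r + s) := by
  intro z T hT
  obtain ⟨w, hw, hd⟩ := @FibDimLib.exists_generic_of_component (Z.residueField z) _ _
    ((f ≫ g).fiberToSpecResidueField z) (UOpenLib.lft_fiberToSpec (f ≫ g) z) _ hT
  rw [← hd, ← FibDimLib.fibreDimAt_fiberι]
  have hmax := UOpenLib.max_of_closure_mem (f ≫ g) (z := w) (hw ▸ hT)
  obtain ⟨h1, h2⟩ := (isGen_comp_iff f g _).1 fun x' a b => hmax x' a b.mem_closure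
  rw [UOpenLib.fibreDimAt_eq_of_max (f ≫ g) hmax, AlgSpLib.fibreClosureDim_eq_resTrdeg, AlgSpLib.resTrdeg_comp,
    map_add, resTrdeg_eq_of_gen g hs h2, resTrdeg_eq_of_gen f hr h1, add_comm (s : ℕ∞)]
  norm_cast

end CycLimLib
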