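import Mathlib
import Groth.Prelude.Def_Cyc
import Groth.Agent.KFlatLib.StalkPull
import Groth.Agent.DegPullLib.Rank
import Groth.Agent.DevissLib.ClosedImm

/-!
# Cycles of coherent sheaves: lengths of stalks of pullbacks and push-forwards
-/

set_option autoImplicit false
set_option linter.style.haveILetI false

universe u

open AlgebraicGeometry CategoryTheory Limits IsLocalRing

namespace CycLimLib

variable {X X' : Scheme.{u}}

theorem length_stalk_pullback (p : X' ⟶ X) [Flat p] (F : X.Modules) (x : X') :
    Module.length (X'.presheaf.stalk x) (((Scheme.Modules.pullback p).obj F).presheaf.stalk x) =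
      Module.length (X.presheaf.stalk (p x)) (F.presheaf.stalk (p x)) *
        Module.length (X'.presheaf.stalk x) (X'.presheaf.stalk x ⧸
          Ideal.map (p.stalkMap x).hom (maximalIdeal (X.presheaf.stalk (p x)))) := by
  letI : Algebra (X.presheaf.stalk (p x)) (X'.presheaf.stalk x) := (p.stalkMap x).hom.toAlgebra
  haveI : Module.Flat (X.presheaf.stalk (p x)) (X'.presheaf.stalk x) := Flat.stalkMap p x
  haveI : IsLocalHom (algebraMap (X.presheaf.stalk (p x)) (X'.presheaf.stalk x)) :=
    inferInstanceAs (IsLocalHom (p.stalkMap x).hom)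
  exact (((KFlatLib.stalkPullIso p x).app F).toLinearEquiv.length_eq).trans
    (IsLocalRing.length_baseChange (X.presheaf.stalk (p x)) (X'.presheaf.stalk x) ((DevissLib.St (p x)).obj F))

theorem nontrivial_of_pullback (p : X' ⟶ X) [Flat p] (F : X.Modules) (x : X')
    (h : Nontrivial (((Scheme.Modules.pullback p).obj F).presheaf.stalk x)) :
    Nontrivial (F.presheaf.stalk (p x)) := by
  have hpos := Module.length_pos (R := X'.presheaf.stalk x)
    (M := ((Scheme.Modules.pullback p).obj F).presheaf.stalk x)
  by_contra hn
  rw [not_nontrivial_iff_subsingleton] at hn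
  rw [length_stalk_pullback, Module.length_eq_zero, zero_mul] at hpos
  exact lt_irrefl _ hpos

/-- Flat pullback of the cycle of a sheaf. -/
theorem pullFun_sheafFun (p : X' ⟶ X) [Flat p] (δ : X → ℤ) (δ' : X' → ℤ) (c : ℤ)
    (hle : ∀ x, δ' x ≤ δ (p x) + c) (k : ℤ) (F : X.Modules)
    (hdim : ∀ x : X, Nontrivial (F.presheaf.stalk x) → δ x ≤ k) :
    (∀ x : X', Nontrivial (((Scheme.Modules.pullback p).obj F).presheaf.stalk x) → δ' x ≤ k + c) ∧
      Cyc.pullFun p δ' δ c (Cyc.sheafFun δ k F) =
        Cyc.sheafFun δ' (k + c) ((Scheme.Modules.pullback p).obj F) := by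
  refine ⟨fun x hx => ?_, funext fun x => ?_⟩
  · have := hdim _ (nontrivial_of_pullback p F x hx)
    have := hle x
    omega
  simp only [Cyc.pullFun, Cyc.sheafFun]
  rw [length_stalk_pullback, ENat.toNat_mul, Nat.cast_mul]
  rcases subsingleton_or_nontrivial (F.presheaf.stalk (p x)) with h | h
  · have h0 : Module.length (X.presheaf.stalk (p x)) (F.presheaf.stalk (p x)) = 0 := Module.length_eq_zero
    rw [h0]
    simp
  · have h1 := hdim _ h
    have h2 := hle x
    split_ifs <;> first | rfl | omega | simp

/-- Lengths of stalks of the structure sheaf of a closed subscheme. -/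
theorem length_stalk_push_structure {Z : Scheme.{u}} (i : Z ⟶ X) [IsClosedImmersion i] (z : Z) :
    Module.length (X.presheaf.stalk (i z)) (((Coh.push i).obj (Coh.structureModule Z)).presheaf.stalk (i z)) =
      Module.length (Z.presheaf.stalk z) (Z.presheaf.stalk z) := by
  letI : Algebra (X.presheaf.stalk (i z)) (Z.presheaf.stalk z) := (i.stalkMap z).hom.toAlgebra
  obtain ⟨U, s, hU, hsU⟩ := TwistLib.exists_genOn (M := Coh.structureModule Z) (fun _ => ⟨⊤, trivial, ⟨Scheme.Modules.restrictUnitIso _⟩⟩) z
  let g : (Coh.structureModule Z).presheaf.stalk z := (Coh.structureModule Z).presheaf.germ U z hU s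
  letI : Module (X.presheaf.stalk (i z)) ((Coh.structureModule Z).presheaf.stalk z) :=
    Module.compHom _ (i.stalkMap z).hom
  haveI : IsScalarTower (X.presheaf.stalk (i z)) (Z.presheaf.stalk z) ((Coh.structureModule Z).presheaf.stalk z) :=
    IsScalarTower.of_compHom _ _ _
  let σ := (TopCat.Presheaf.stalkPushforward AddCommGrpCat i.base (Coh.structureModule Z).presheaf z).hom
  let σ' : ((Coh.push i).obj (Coh.structureModule Z)).presheaf.stalk (i z) →ₗ[X.presheaf.stalk (i z)]
      (Coh.structureModule Z).presheaf.stalk z :=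
    { toFun := fun a => σ a
      map_add' := fun a b => map_add σ a b
      map_smul' := fun c a => DegPullLib.stalkPushforward_smul i (Coh.structureModule Z) z c a }
  let e := LinearEquiv.ofBijective σ' (DegPullLib.bijective_stalkPushforward i i.isClosedEmbedding.isClosedMap
    (Coh.structureModule Z) z fun w hw => i.isClosedEmbedding.injective hw)
  let e₂ := LinearEquiv.ofBijective (LinearMap.toSpanSingleton (Z.presheaf.stalk z) _ g) (hsU.genAt hU)
  have hs : Function.Surjective (algebraMap (X.presheaf.stalk (i z)) (Z.presheaf.stalk z)) :=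
    i.stalkMap_surjective z
  rw [e.length_eq, Module.length_eq_of_surjective (R := Z.presheaf.stalk z) hs, ← e₂.length_eq]

end CycLimLib
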