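import Mathlib
import Groth.Prelude.Def_Cyc
import Groth.Agent.CycLimLib.Basic
import Groth.Agent.CycC1Lib.Pull
import Groth.Agent.CycSeqLib.Family

/-!
# Pullbacks of families of principal divisors along flat maps of relative dimension zero
-/

set_option autoImplicit false
set_option linter.style.haveILetI false
set_option linter.unusedSectionVars false

universe u

open AlgebraicGeometry CategoryTheory IsLocalRing

noncomputable section

namespace CycLimLib

open CycSeqLib (Fam)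

variable {X Y Z : Scheme.{u}}

theorem finite_fam_index {δ : X → ℤ} {k : ℤ} [CompactSpace X] (A : Fam X δ k) : Finite A.I := by
  choose U hUo hU hUf using A.locFin
  obtain ⟨t, ht⟩ := isCompact_univ.elim_finite_subcover U hUo fun v _ => Set.mem_iUnion.2 ⟨v, hU v⟩
  refine Set.finite_univ_iff.1 ((t.finite_toSet.biUnion fun v _ => hUf v).subset fun i _ => ?_)
  obtain ⟨v, hv, hiv⟩ := Set.mem_iUnion₂.1 (ht (Set.mem_univ (A.ξ i)))
  exact Set.mem_biUnion hv ⟨A.ξ i, subset_closure rfl, hiv⟩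

theorem isGen_shift_iff (f : X ⟶ Y) [IsLocallyNoetherian X] {δX : X → ℤ} {δY : Y → ℤ} (hd : Cyc.IsDimFun X δX)
    (hsh : ∀ x, IsGen f x → δX x = δY (f x)) (x : X) : δX x = δY (f x) + 0 ↔ IsGen f x :=
  ⟨fun h => isGen_of_delta f δX δY hd hsh (by rwa [add_zero] at h), fun h => by rw [add_zero]; exact hsh x h⟩

/-- Pullback along a composition, in relative dimension zero. -/
theorem pullFun_comp_zero (f : X ⟶ Y) (g : Y ⟶ Z) (g' : X ⟶ Z) (w : f ≫ g = g') [Flat f]
    [IsLocallyNoetherian X] [IsLocallyNoetherian Y] {δX : X → ℤ} {δY : Y → ℤ} {δZ : Z → ℤ}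
    (hdX : Cyc.IsDimFun X δX) (hdY : Cyc.IsDimFun Y δY)
    (hf : ∀ x, IsGen f x → δX x = δY (f x)) (hg : ∀ y, IsGen g y → δY y = δZ (g y))
    (hfg : ∀ x, IsGen g' x → δX x = δZ (g' x)) (a : Z → ℤ) :
    Cyc.pullFun f δX δY 0 (Cyc.pullFun g δY δZ 0 a) = Cyc.pullFun g' δX δZ 0 a := by
  subst w
  funext x
  simp only [Cyc.pullFun]
  by_cases hx : δX x = δZ ((f ≫ g) x) + 0
  · have hG := (isGen_comp_iff f g x).1 ((isGen_shift_iff _ hdX hfg x).1 hx)
    have h1 := (isGen_shift_iff f hdX hf x).2 hG.1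
    have h2 := (isGen_shift_iff g hdY hg (f x)).2 hG.2
    rw [if_pos hx, if_pos h1, if_pos h2, mul_assoc, ← Nat.cast_mul, ← ENat.toNat_mul,
      ← length_fibIdeal_comp f g x]
    rfl
  · rw [if_neg hx]
    by_cases h1 : δX x = δY (f x) + 0
    · rw [if_pos h1, if_neg fun h2 => hx (h1.trans (by rw [add_zero]; exact h2)), zero_mul]
    · rw [if_neg h1]

/-- The pullback of a finite family is a family. -/
theorem ratEquivZero_pull (f : X ⟶ Y) [Flat f] [CompactSpace X] {δX : X → ℤ} {δY : Y → ℤ}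
    (hX : Cyc.IsSetup X δX) (hY : Cyc.IsSetup Y δY) (hf : ∀ x, IsGen f x → δX x = δY (f x)) {k : ℤ}
    (A : Fam Y δY k) [Finite A.I] {γ : AlgebraicCycle X ℤ} (h : ⇑γ = Cyc.pullFun f δX δY 0 A.sum) :
    Cyc.RatEquivZero δX k γ := by
  classical
  haveI := hX.1
  have hfin : ∀ i : A.I, {z : X | IsGen f z ∧ f z = A.ξ i}.Finite := fun i => by
    choose V hV hxV _ using fun x : X => exists_isAffineOpen_mem_and_subset (X := X) (x := x) (U := ⊤) trivial
    obtain ⟨t, ht⟩ := isCompact_univ.elim_finite_subcover (fun x => (V x : Set X)) (fun x => (V x).isOpen)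
      fun v _ => Set.mem_iUnion.2 ⟨v, hxV v⟩
    refine (t.finite_toSet.biUnion fun x _ => CycC1Lib.finite_gen_inter_affine f (hV x) (A.ξ i)).subset ?_
    intro z hz
    obtain ⟨v, hv, hzv⟩ := Set.mem_iUnion₂.1 (ht (Set.mem_univ z))
    exact Set.mem_biUnion hv ⟨hzv, hz.1, hz.2⟩
  let len : X → ℕ := fun z => (Module.length (X.presheaf.stalk z) (X.presheaf.stalk z ⧸ fibIdeal f z)).toNat
  haveI : ∀ i, Finite {z : X // IsGen f z ∧ f z = A.ξ i} := fun i => (hfin i).to_subtype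
  let I' := Σ i : A.I, {z : X // IsGen f z ∧ f z = A.ξ i}
  let B : Fam X δX k :=
    { I := I'
      ξ := fun s => s.2.1
      f := fun s => CycDivLib.gpull f s.2.2.2 (A.f s.1) ^ len s.2.1
      delta := fun s => by rw [hf _ s.2.2.1, s.2.2.2, A.delta]
      ne_zero := fun s => pow_ne_zero _ ((_root_.map_ne_zero _).2 (A.ne_zero s.1))
      locFin := fun x => ⟨Set.univ, isOpen_univ, trivial, Set.toFinite _⟩ }
  refine B.ratEquivZero fun x => ?_
  rw [h]
  have hlin : Cyc.pullFun f δX δY 0 A.sum x = ∑ᶠ i, Cyc.pullFun f δX δY 0 (Cyc.divFun δY (A.ξ i) (A.f i)) x := by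
    simp only [Cyc.pullFun]
    split_ifs
    · simp only [CycSeqLib.Fam.sum]
      rw [finsum_mul]
    · rw [finsum_zero]
  rw [hlin]
  haveI : Fintype A.I := Fintype.ofFinite _
  haveI : ∀ i, Fintype {z : X // IsGen f z ∧ f z = A.ξ i} := fun i => Fintype.ofFinite _
  show _ = ∑ᶠ s : I', Cyc.divFun δX s.2.1 (CycDivLib.gpull f s.2.2.2 (A.f s.1) ^ len s.2.1) x
  rw [finsum_eq_sum_of_fintype, finsum_eq_sum_of_fintype, Fintype.sum_sigma]
  refine Finset.sum_congr rfl fun i _ => ?_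
  rw [CycDivLib.pullFun_divFun_of_gen f hX hY (r := 0) (fun z hz => by rw [add_zero]; exact hf z hz) (A.ξ i)
    (A.ne_zero i) x, finsum_eq_sum_of_fintype]
  refine Finset.sum_congr rfl fun z _ => ?_
  rw [← zpow_natCast, CycC1Lib.divFun_zpow hX ((_root_.map_ne_zero _).2 (A.ne_zero i))]

end CycLimLib

end
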